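import Groth.Agent.ASB64.TypeSym.Step
import Groth.Agent.Csa25.GenericSymbol
import Mathlib.FieldTheory.IsAlgClosed.AlgebraicClosure
import Mathlib.RingTheory.RootsOfUnity.AlgebraicallyClosed

/-! Central division algebras of prescribed period and index. -/

set_option autoImplicit false
set_option maxSynthPendingDepth 6
set_option synthInstance.maxHeartbeats 200000
set_option backward.isDefEq.respectTransparency.types false
universe u

open scoped TensorProduct Groth.Agent.Csa25
open Module

noncomputable section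

namespace Groth.Agent.ASB64

open Csa25

/-- The generic symbol algebra has index equal to its period. -/
theorem hasType_self (p : ℕ) (hp : 0 < p) : HasType.{u} p p := by
  haveI : CharZero (ULift.{u} ℚ) :=
    charZero_of_injective_ringHom (f := (ULift.ringEquiv (R := ℚ)).symm.toRingHom) (RingEquiv.injective _)
  let k₀ := AlgebraicClosure (ULift.{u} ℚ)
  haveI : CharZero k₀ := charZero_of_injective_algebraMap (algebraMap (ULift.{u} ℚ) k₀).injective
  haveI : NeZero p := ⟨hp.ne'⟩
  haveI : NeZero (p : k₀) := ⟨Nat.cast_ne_zero.mpr hp.ne'⟩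
  obtain ⟨ω, hω⟩ := HasEnoughRootsOfUnity.exists_primitiveRoot k₀ p
  let P := MvPolynomial (Fin 2) k₀
  let K := FractionRing P
  let x : Kˣ := Units.mk0 (algebraMap P K (MvPolynomial.X 0))
    ((map_ne_zero_iff _ (IsFractionRing.injective P K)).mpr (MvPolynomial.X_ne_zero _))
  let y : Kˣ := Units.mk0 (algebraMap P K (MvPolynomial.X 1))
    ((map_ne_zero_iff _ (IsFractionRing.injective P K)).mpr (MvPolynomial.X_ne_zero _))
  obtain ⟨A, _, _, hA, _, _, _⟩ := exists_generic_symbolAlg k₀ p hp ω hω x y rfl
  obtain ⟨-, hord⟩ := (isPeriod_iff K A p).mp (isPeriod_symbolAlg k₀ p hp ω hω x y rfl rfl A hA)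
  obtain ⟨d, hd⟩ := exists_isIndex (k := K) A
  obtain ⟨hd0, m, D, _, _, hm, _, _, hD, ⟨e⟩⟩ := isIndex_data hd
  haveI : NeZero m := ⟨hm.ne'⟩
  have hdim : finrank K A = p ^ 2 := by
    obtain ⟨_, _, -, -, -, -, -, h⟩ := hA
    exact h
  have hle : d ≤ p := by
    have h := e.toLinearEquiv.finrank_eq
    rw [hdim, Module.finrank_matrix, Fintype.card_fin, hD] at h
    by_contra hc
    have h1 : 1 * (d * d) ≤ m * m * (d * d) := Nat.mul_le_mul_right _ (Nat.mul_pos hm hm)
    nlinarith
  have hdp : d = p := le_antisymm hle (Nat.le_of_dvd hd0 (hord ▸ orderOf_dvd_index hd))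
  refine ⟨K, inferInstance, D, inferInstance, inferInstance, inferInstance, inferInstance,
    ⟨_, hω.map_of_injective (f := (algebraMap P K).comp MvPolynomial.C)
      ((IsFractionRing.injective P K).comp (MvPolynomial.C_injective _ _))⟩, by rw [hD, hdp], ?_⟩
  rw [← hord, cl_congr e, cl_matrix]

/-- Every admissible pair of period and index occurs. -/
theorem hasType_of_dvd {p i : ℕ} (hp : 0 < p) (hi : 0 < i) (hpi : p ∣ i)
    (hprimes : ∀ q : ℕ, q.Prime → q ∣ i → q ∣ p) : HasType.{u} p i := by
  obtain ⟨r, rfl⟩ := hpi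
  induction r using Nat.strong_induction_on with
  | _ r ih =>
    rcases eq_or_ne r 1 with rfl | hr
    · simpa using hasType_self p hp
    · obtain ⟨t, ht⟩ := Nat.minFac_dvd r
      have hq := Nat.minFac_prime hr
      have hr0 : 0 < r := Nat.pos_of_mul_pos_left hi
      have ht0 : 0 < t := Nat.pos_of_ne_zero fun h => by rw [h, mul_zero] at ht; omega
      have htr : t < r := by
        conv_rhs => rw [ht]
        exact lt_mul_of_one_lt_left ht0 hq.one_lt
      have h := hasType_mul hp hq (hprimes _ hq ((Nat.minFac_dvd r).trans (dvd_mul_left r p)))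
        (ih t htr (Nat.mul_pos hp ht0) fun q h1 h2 => hprimes q h1 (h2.trans (mul_dvd_mul_left p ⟨_, ht.trans (mul_comm _ _)⟩)))
      rwa [show p * t * r.minFac = p * r by rw [mul_assoc, mul_comm t, ← ht]] at h

end Groth.Agent.ASB64
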