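import Groth.Agent.Grass5.Apps
import Groth.Prelude.Def_BrSev2

/-! The Severi-Brauer scheme of an algebra exists. -/

set_option autoImplicit false
set_option maxSynthPendingDepth 6
set_option backward.isDefEq.respectTransparency.types false
universe u

open CategoryTheory AlgebraicGeometry
open scoped TensorProduct

noncomputable section

namespace Groth.Agent.ASB64

/-- The functor of left ideals with projective quotient of given rank is representable. -/
theorem exists_isSBOf (k : Type u) [Field k] (A : Type u) [Ring A] [Algebra k A] [Module.Finite k A] (c : ℕ) :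
    ∃ (X : Scheme.{u}) (f : X ⟶ Spec (CommRingCat.of k)), BrSev.IsSBOf k A c f := by
  classical
  obtain ⟨G, e, he⟩ := Grass5.exists_rep_of_finite (R := k) (M := A) c
  obtain ⟨Z, ι, hι, hZ⟩ := Grass5.exists_closedImmersion_of_stable e he (fun b : A => LinearMap.mulLeft k b)
  let f : Z ⟶ Spec (CommRingCat.of k) := ι ≫ G.hom
  let toG : ∀ (R : Type u) [CommRing R] [Algebra k R], BrSev.Pts f R → (Grass5.pt (CommAlgCat.of k R) ⟶ G) :=
    fun R _ _ g => Over.homMk (g.1 ≫ ι) ((Category.assoc _ _ _).trans g.2)
  have hstab : ∀ (R : Type u) [CommRing R] [Algebra k R] (g : BrSev.Pts f R) (a x : R ⊗[k] A),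
      x ∈ (e (CommAlgCat.of k R) (toG R g)).toSubmodule → a * x ∈ (e (CommAlgCat.of k R) (toG R g)).toSubmodule := by
    intro R _ _ g a x hx
    have h := (hZ (CommAlgCat.of k R) (toG R g)).1 ⟨g.1, rfl⟩
    induction a using TensorProduct.induction_on with
    | zero => rw [zero_mul]; exact zero_mem _
    | add u v hu hv => rw [add_mul]; exact add_mem hu hv
    | tmul r b =>
      have h1 : r ⊗ₜ[k] b * x = r • ((LinearMap.mulLeft k b).baseChange R x) := by
        rw [← Grass5.one_tmul_mul, ← smul_mul_assoc, TensorProduct.smul_tmul', smul_eq_mul, mul_one]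
      rw [h1]
      exact Submodule.smul_mem _ r (h b x hx)
  let F : ∀ (R : Type u) [CommRing R] [Algebra k R], BrSev.Pts f R → BrSev.SBSet k A c R := fun R _ _ g =>
    ⟨e (CommAlgCat.of k R) (toG R g), hstab R g⟩
  have hbij : ∀ (R : Type u) [CommRing R] [Algebra k R], Function.Bijective (F R) := by
    intro R _ _
    refine ⟨fun g g' hgg => ?_, fun N => ?_⟩
    · have h1 := congrArg (fun h => h.left) ((e (CommAlgCat.of k R)).injective (congrArg Subtype.val hgg))
      haveI : IsClosedImmersion ι := hι
      exact Subtype.ext ((cancel_mono ι).1 h1)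
    · obtain ⟨h, hh⟩ := (hZ (CommAlgCat.of k R) ((e (CommAlgCat.of k R)).symm N.1)).2 (by
        intro b x hx
        rw [Equiv.apply_symm_apply] at hx ⊢
        rw [← Grass5.one_tmul_mul]
        exact N.2 _ _ hx)
      refine ⟨⟨h, ?_⟩, Subtype.ext ?_⟩
      · show h ≫ ι ≫ G.hom = _
        rw [← Category.assoc, hh]
        exact Over.w ((e (CommAlgCat.of k R)).symm N.1)
      · show e (CommAlgCat.of k R) (toG R ⟨h, _⟩) = N.1
        exact (congrArg (e (CommAlgCat.of k R))
          (show toG R ⟨h, _⟩ = (e (CommAlgCat.of k R)).symm N.1 from Over.OverMorphism.ext hh)).trans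
          (Equiv.apply_symm_apply _ _)
  refine ⟨Z, f, ⟨{ bij := fun R _ _ => Equiv.ofBijective (F R) (hbij R), natural := fun R S _ _ _ _ φ g => ?_ }⟩⟩
  exact congrArg (fun N => N.toSubmodule) (he (CommAlgCat.of k R) (CommAlgCat.of k S) (CommAlgCat.ofHom φ)
    (toG R g) (toG S (BrSev.Pts.map f φ g)) (Category.assoc _ _ _))

end Groth.Agent.ASB64
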