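import Mathlib.RingTheory.HahnSeries.Summable
import Mathlib.RingTheory.HahnSeries.Multiplication
import Mathlib.RingTheory.RootsOfUnity.PrimitiveRoots
import Mathlib.RingTheory.TensorProduct.Maps
import Mathlib.LinearAlgebra.Pi
import Mathlib.LinearAlgebra.TensorProduct.Basis
import Mathlib.Data.Prod.Lex
import Mathlib.Algebra.Order.Monoid.Prod
import Mathlib.Data.ZMod.Basic

/-! Twisted homogeneous series: a series ring in two variables commuting up to a root of unity. -/

set_option autoImplicit false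
set_option maxSynthPendingDepth 6
set_option synthInstance.maxHeartbeats 200000
set_option backward.isDefEq.respectTransparency.types false
universe u

open scoped TensorProduct

noncomputable section

namespace Groth.Agent.ASB64.TwSer

/-- The exponents. -/
abbrev Γ : Type := Lex (ℤ × ℤ)

variable {k : Type u} [Field k] {q : ℕ} [NeZero q] {ω : k}

/-- The character of `ZMod q` given by a root of unity. -/
def chi (ω : k) (x : ZMod q) : k := ω ^ x.val

theorem chi_add (hω : ω ^ q = 1) (x y : ZMod q) : chi ω (x + y) = chi ω x * chi ω y := by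
  rw [chi, chi, chi, ← pow_add, ZMod.val_add, ← pow_mod_orderOf]
  conv_rhs => rw [← pow_mod_orderOf]
  congr 1
  exact Nat.mod_mod_of_dvd _ (orderOf_dvd_of_pow_eq_one hω)

theorem chi_zero (ω : k) : chi (q := q) ω 0 = 1 := by rw [chi, ZMod.val_zero, pow_zero]

theorem chi_ne_zero (hω : ω ^ q = 1) (x : ZMod q) : chi ω x ≠ 0 :=
  pow_ne_zero _ fun h => by rw [h, zero_pow (NeZero.ne q)] at hω; exact zero_ne_one hω

theorem eq_zero_of_chi_eq_one (hω : IsPrimitiveRoot ω q) {x : ZMod q} (h : chi ω x = 1) : x = 0 :=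
  (ZMod.val_eq_zero x).mp (Nat.eq_zero_of_dvd_of_lt (hω.dvd_of_pow_eq_one _ h) (ZMod.val_lt x))

variable (k q) in
/-- Operators on functions on `ZMod q`. -/
abbrev Op : Type u := Module.End k (ZMod q → k)

/-- A translation followed by a modulation. -/
def U (ω : k) (a b : ZMod q) : Op k q :=
  LinearMap.pi fun i => chi ω (a * i) • LinearMap.proj (i - b)

theorem U_apply (a b : ZMod q) (f : ZMod q → k) (i : ZMod q) : U ω a b f i = chi ω (a * i) * f (i - b) := rfl

theorem U_zero : U (q := q) ω 0 0 = 1 := LinearMap.ext fun f => funext fun i => by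
  rw [U_apply, zero_mul, chi_zero, one_mul, sub_zero]; rfl

theorem U_mul (hω : ω ^ q = 1) (a b c d : ZMod q) :
    U ω a b * U ω c d = chi ω (-(c * b)) • U ω (a + c) (b + d) := LinearMap.ext fun f => funext fun i => by
  rw [LinearMap.smul_apply, Pi.smul_apply, smul_eq_mul, Module.End.mul_apply, U_apply, U_apply, U_apply,
    ← mul_assoc, ← mul_assoc, ← chi_add hω, ← chi_add hω]
  congr 2 <;> ring

/-- The operator attached to an exponent. -/
def ug (q : ℕ) [NeZero q] (ω : k) (g : Γ) : Op k q := U ω ((ofLex g).1 : ZMod q) ((ofLex g).2 : ZMod q)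

theorem ug_zero : ug q ω 0 = 1 := by
  rw [ug, show (ofLex (0 : Γ)) = (0, 0) from rfl]
  simp only [Int.cast_zero]
  exact U_zero

theorem ug_mul (hω : ω ^ q = 1) (g h : Γ) :
    ug q ω g * ug q ω h = chi (q := q) ω (-(((ofLex h).1 : ZMod q) * ((ofLex g).2 : ZMod q))) • ug q ω (g + h) := by
  rw [ug, ug, ug, U_mul hω, show ofLex (g + h) = ofLex g + ofLex h from rfl, Prod.fst_add, Prod.snd_add,
    Int.cast_add, Int.cast_add]

variable (k q) in
/-- The scaled exponents. -/
def scale : Γ →+ Γ := q • AddMonoidHom.id Γ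

theorem scale_apply (g : Γ) : scale q g = q • g := rfl

theorem scale_le_iff (g h : Γ) : scale q g ≤ scale q h ↔ g ≤ h := by
  rw [scale_apply, scale_apply]
  exact nsmul_le_nsmul_iff_right (NeZero.ne q)

theorem scale_injective : Function.Injective (scale q) := fun g h hgh =>
  le_antisymm ((scale_le_iff g h).mp hgh.le) ((scale_le_iff h g).mp hgh.ge)

theorem ug_scale (g : Γ) : ug q ω (scale q g) = 1 := by
  rw [ug, scale_apply, show ofLex (q • g) = q • ofLex g from rfl, Prod.smul_fst, Prod.smul_snd]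
  simp only [nsmul_eq_mul, Int.cast_mul, Int.cast_natCast, ZMod.natCast_self, zero_mul]
  exact U_zero

variable (k q) in
/-- The base field of series. -/
abbrev Base : Type u := HahnSeries Γ k

variable (k q) in
/-- Series with coefficients in `C ⊗ Op`. -/
def Tw (C : Type u) [Ring C] [Algebra k C] : Type u := HahnSeries Γ (C ⊗[k] Op k q)

section

variable {C : Type u} [Ring C] [Algebra k C]

instance : Ring (Tw k q C) := inferInstanceAs (Ring (HahnSeries Γ (C ⊗[k] Op k q)))
instance : Algebra k (Tw k q C) := inferInstanceAs (Algebra k (HahnSeries Γ (C ⊗[k] Op k q)))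

/-- The underlying series. -/
def ser (x : Tw k q C) : HahnSeries Γ (C ⊗[k] Op k q) := x

theorem ser_mul (x y : Tw k q C) : ser (x * y) = ser x * ser y := rfl

/-- The scalars. -/
def scal : Base k →+* Tw k q C :=
  (show HahnSeries Γ k →+* HahnSeries Γ (C ⊗[k] Op k q) from
    { toFun := fun x => x.map (algebraMap k (C ⊗[k] Op k q))
      map_one' := HahnSeries.map_one (algebraMap k (C ⊗[k] Op k q)).toMonoidWithZeroHom
      map_mul' := fun x y => HahnSeries.map_mul (algebraMap k (C ⊗[k] Op k q)).toNonUnitalRingHom (x := x) (y := y)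
      map_zero' := HahnSeries.map_zero (algebraMap k (C ⊗[k] Op k q)).toZeroHom
      map_add' := fun x y => HahnSeries.map_add (algebraMap k (C ⊗[k] Op k q)).toAddMonoidHom }).comp
    (HahnSeries.embDomainRingHom (scale q) scale_injective scale_le_iff)

theorem scal_coeff_scale (f : Base k) (g : Γ) :
    (ser (scal (q := q) (C := C) f)).coeff (scale q g) = algebraMap k _ (f.coeff g) :=
  congrArg (algebraMap k (C ⊗[k] Op k q)) (HahnSeries.embDomain_coeff
    (f := ⟨⟨scale q, scale_injective⟩, scale_le_iff _ _⟩) (x := f) (a := g))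

theorem scal_coeff_of_notMem (f : Base k) {g : Γ} (hg : g ∉ Set.range (scale q)) :
    (ser (scal (q := q) (C := C) f)).coeff g = 0 :=
  (congrArg (algebraMap k (C ⊗[k] Op k q)) (HahnSeries.embDomain_of_notMem_range
    (f := ⟨⟨scale q, scale_injective⟩, scale_le_iff _ _⟩) (x := f) hg)).trans (map_zero _)

theorem scal_commutes (f : Base k) (x : Tw k q C) : scal f * x = x * scal f := by
  refine HahnSeries.ext (funext fun a => ?_)
  show (ser (scal f) * ser x).coeff a = (ser x * ser (scal f)).coeff a
  rw [HahnSeries.coeff_mul, HahnSeries.coeff_mul]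
  refine Finset.sum_bij' (fun ij _ => ij.swap) (fun ij _ => ij.swap) ?_ ?_ (fun _ _ => rfl) (fun _ _ => rfl) ?_
  · intro ij h
    simp only [Finset.mem_antidiagonal, Prod.fst_swap, Prod.snd_swap] at h ⊢
    exact ⟨h.2.1, h.1, by rw [add_comm]; exact h.2.2⟩
  · intro ij h
    simp only [Finset.mem_antidiagonal, Prod.fst_swap, Prod.snd_swap] at h ⊢
    exact ⟨h.2.1, h.1, by rw [add_comm]; exact h.2.2⟩
  · intro ij _
    by_cases hm : ij.1 ∈ Set.range (scale q)
    · obtain ⟨g, hg⟩ := hm
      simp only [Prod.fst_swap, Prod.snd_swap, ← hg, scal_coeff_scale]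
      exact Algebra.commutes _ _
    · simp only [Prod.fst_swap, Prod.snd_swap, scal_coeff_of_notMem f hm, zero_mul, mul_zero]

instance : Algebra (Base k) (Tw k q C) := (scal (q := q)).toAlgebra' scal_commutes

theorem algebraMap_eq_scal : algebraMap (Base k) (Tw k q C) = scal (q := q) := rfl

instance : IsScalarTower k (Base k) (Tw k q C) := IsScalarTower.of_algebraMap_eq fun c => by
  refine HahnSeries.ext (funext fun g => ?_)
  show (HahnSeries.C (algebraMap k (C ⊗[k] Op k q) c) : HahnSeries Γ (C ⊗[k] Op k q)).coeff g =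
    (ser (scal (HahnSeries.C c : Base k))).coeff g
  rw [HahnSeries.C_apply, HahnSeries.C_apply]
  by_cases hg : g ∈ Set.range (scale q)
  · obtain ⟨g', rfl⟩ := hg
    rw [scal_coeff_scale]
    rcases eq_or_ne g' 0 with rfl | h0
    · rw [map_zero, HahnSeries.coeff_single_same, HahnSeries.coeff_single_same]
    · rw [HahnSeries.coeff_single_of_ne (fun h => h0 (scale_injective (h.trans (map_zero _).symm))),
        HahnSeries.coeff_single_of_ne h0, map_zero]
  · rw [scal_coeff_of_notMem _ hg, HahnSeries.coeff_single_of_ne]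
    rintro rfl
    exact hg ⟨0, map_zero _⟩

/-- Contracting the operator part. -/
def ctr : C ⊗[k] Op k q →ₗ[k] C :=
  (TensorProduct.rid k C).toLinearMap ∘ₗ
    LinearMap.lTensor C ((LinearMap.proj (0 : ZMod q)).comp (LinearMap.applyₗ (R := k) fun _ : ZMod q => (1 : k)))

theorem ctr_tmul_ug (c : C) (g : Γ) : ctr (c ⊗ₜ[k] ug q ω g) = c := by
  show ((ug q ω g) (fun _ => (1 : k)) 0) • c = c
  rw [ug, U_apply, mul_zero, chi_zero, mul_one, one_smul]

/-- Homogeneity of the coefficients. -/
def Homog (ω : k) (x : Tw k q C) : Prop := ∀ g, (ser x).coeff g = ctr ((ser x).coeff g) ⊗ₜ[k] ug q ω g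

theorem homog_of_exists (x : Tw k q C) (h : ∀ g, ∃ c : C, (ser x).coeff g = c ⊗ₜ[k] ug q ω g) : Homog ω x := fun g => by
  obtain ⟨c, hc⟩ := h g
  rw [hc, ctr_tmul_ug]

/-- The subalgebra of homogeneous series. -/
def good (C : Type u) [Ring C] [Algebra k C] (hω : ω ^ q = 1) : Subalgebra (Base k) (Tw k q C) where
  carrier := {x | Homog ω x}
  mul_mem' {x y} hx hy := fun g => by
    show (ser x * ser y).coeff g = ctr ((ser x * ser y).coeff g) ⊗ₜ[k] ug q ω g
    rw [HahnSeries.coeff_mul, map_sum, TensorProduct.sum_tmul]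
    refine Finset.sum_congr rfl fun ij hij => ?_
    rw [hx ij.1, hy ij.2, Algebra.TensorProduct.tmul_mul_tmul, ug_mul hω, TensorProduct.tmul_smul,
      TensorProduct.smul_tmul', (Finset.mem_antidiagonal.1 hij).2.2, ctr_tmul_ug]
  add_mem' {x y} hx hy := fun g => by
    show (ser x).coeff g + (ser y).coeff g = ctr ((ser x).coeff g + (ser y).coeff g) ⊗ₜ[k] ug q ω g
    rw [map_add, TensorProduct.add_tmul, ← hx g, ← hy g]
  algebraMap_mem' f := fun g => by
    rw [algebraMap_eq_scal]
    by_cases hg : g ∈ Set.range (scale q)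
    · obtain ⟨g', rfl⟩ := hg
      rw [scal_coeff_scale, Algebra.algebraMap_eq_smul_one, Algebra.TensorProduct.one_def,
        TensorProduct.smul_tmul', ← ug_scale (q := q) (ω := ω) g', ctr_tmul_ug]
    · rw [scal_coeff_of_notMem f hg, map_zero, TensorProduct.zero_tmul]

variable [IsDomain C]

theorem good_noZeroDivisors (hω : ω ^ q = 1) {x y : Tw k q C} (hx : x ∈ good C hω) (hy : y ∈ good C hω)
    (hxy : x * y = 0) : x = 0 ∨ y = 0 := by
  by_contra hne
  rw [not_or] at hne
  have hx0 : (ser x).coeff (ser x).order ≠ 0 := fun h => hne.1 (HahnSeries.coeff_order_eq_zero.mp h)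
  have hy0 : (ser y).coeff (ser y).order ≠ 0 := fun h => hne.2 (HahnSeries.coeff_order_eq_zero.mp h)
  have hl := HahnSeries.coeff_mul_order_add_order (ser x) (ser y)
  rw [HahnSeries.leadingCoeff_eq, HahnSeries.leadingCoeff_eq, hx _, hy _, Algebra.TensorProduct.tmul_mul_tmul,
    ug_mul hω, TensorProduct.tmul_smul, TensorProduct.smul_tmul'] at hl
  have h0 := congrArg ctr hl
  rw [show ser x * ser y = 0 from hxy, HahnSeries.coeff_zero, map_zero, ctr_tmul_ug] at h0
  rcases eq_or_ne (ctr ((ser x).coeff (ser x).order) * ctr ((ser y).coeff (ser y).order)) 0 with hz | hz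
  · rcases mul_eq_zero.mp hz with h | h
    · exact hx0 (by rw [hx _, h, TensorProduct.zero_tmul])
    · exact hy0 (by rw [hy _, h, TensorProduct.zero_tmul])
  · exact hz ((smul_eq_zero.mp h0.symm).resolve_left (chi_ne_zero hω _))

end

end Groth.Agent.ASB64.TwSer
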