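import Groth.Agent.ASB64.TypeSym.Sym
import Groth.Agent.Csa25.TensorPower
import Groth.Agent.Csa25.Splitting
import Groth.Agent.Csa25.BrauerGroup
import Groth.Agent.Csa25.Index

/-! Raising the index by a prime dividing the period. -/

set_option autoImplicit false
set_option maxSynthPendingDepth 6
set_option synthInstance.maxHeartbeats 200000
set_option backward.isDefEq.respectTransparency.types false
universe u

open scoped TensorProduct Groth.Agent.Csa25
open Module

noncomputable section

namespace Groth.Agent.ASB64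

open TwSer Csa25

/-- `1 × 1` matrices. -/
def matOneEquiv (K : Type u) [Field K] (A : Type u) [Ring A] [Algebra K A] : A ≃ₐ[K] Matrix (Fin 1) (Fin 1) A :=
  AlgEquiv.ofBijective (Matrix.scalarAlgHom (Fin 1) K)
    ⟨fun a b h => by simpa using congrFun (congrFun h 0) 0,
      fun B => ⟨B 0 0, by ext i j; simp [Subsingleton.elim i 0, Subsingleton.elim j 0]⟩⟩

/-- The index of a central algebra without zero divisors is its degree. -/
theorem isIndex_of_noZeroDivisors (K : Type u) [Field K] (A : Type u) [Ring A] [Algebra K A]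
    [Nontrivial A] [NoZeroDivisors A] [FiniteDimensional K A] {d : ℕ} (hd : finrank K A = d * d) :
    CSAGal.IsIndex K A d := by
  haveI : IsDomain A := NoZeroDivisors.to_isDomain A
  let e : A ≃ₐ[K] Matrix (Fin 1) (Fin 1) A := matOneEquiv K A
  have hpos : 0 < d := Nat.pos_of_ne_zero fun h => by
    have : 0 < finrank K A := Module.finrank_pos
    rw [hd, h] at this; exact lt_irrefl 0 this
  letI : DivisionRing A := divisionRingOfFiniteDimensional K A
  exact Csa25.isIndex_of_algEquiv one_pos hpos (by rw [hd, pow_two]) e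

/-- A split central algebra without zero divisors is the field. -/
theorem finrank_eq_one_of_cl {K : Type u} [Field K] (A : Type u) [Ring A] [Algebra K A] [Algebra.IsCentral K A]
    [IsSimpleRing A] [FiniteDimensional K A] [NoZeroDivisors A] (h : cl K A = 1) : finrank K A = 1 := by
  obtain ⟨d, -, hd⟩ := exists_finrank_eq_mul_self K A
  have h1 : CSAGal.IsIndex K A 1 := splits_iff_isIndex_one.mp (splits_iff_cl_eq_one.mpr h)
  rw [hd, isIndex_unique (isIndex_of_noZeroDivisors K A hd) h1]

section

variable {k : Type u} [Field k] {q : ℕ} [NeZero q] {ω : k}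

/-- Constants in twisted series. -/
def constHom (E : Type u) [Ring E] [Algebra k E] : E →ₐ[k] Tw k q E where
  toRingHom := (HahnSeries.C : (E ⊗[k] Op k q) →+* HahnSeries Γ (E ⊗[k] Op k q)).comp
    (Algebra.TensorProduct.includeLeftRingHom (R := k) (A := E) (B := Op k q))
  commutes' c := by
    show HahnSeries.C ((algebraMap k E c) ⊗ₜ[k] (1 : Op k q)) =
      HahnSeries.C (algebraMap k (E ⊗[k] Op k q) c)
    rw [Algebra.TensorProduct.algebraMap_apply]

/-- Changing the coefficient algebra. -/
def coefHom (E : Type u) [Ring E] [Algebra k E] : Tw k q k →ₐ[Base k] Tw k q E where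
  toFun x := (ser x).map (Algebra.TensorProduct.map (Algebra.ofId k E) (AlgHom.id k (Op k q))).toRingHom
  map_one' := HahnSeries.map_one (Algebra.TensorProduct.map (Algebra.ofId k E) (AlgHom.id k (Op k q))).toRingHom.toMonoidWithZeroHom
  map_mul' x y := HahnSeries.map_mul
    (Algebra.TensorProduct.map (Algebra.ofId k E) (AlgHom.id k (Op k q))).toRingHom.toNonUnitalRingHom (x := ser x) (y := ser y)
  map_zero' := HahnSeries.map_zero
    (Algebra.TensorProduct.map (Algebra.ofId k E) (AlgHom.id k (Op k q))).toRingHom.toZeroHom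
  map_add' x y := HahnSeries.map_add
    (Algebra.TensorProduct.map (Algebra.ofId k E) (AlgHom.id k (Op k q))).toRingHom.toAddMonoidHom
  commutes' f := HahnSeries.ext (funext fun g => by
    show Algebra.TensorProduct.map (Algebra.ofId k E) (AlgHom.id k (Op k q)) ((ser (scal f)).coeff g) =
      (ser (scal (q := q) (C := E) f)).coeff g
    by_cases hg : g ∈ Set.range (scale q)
    · obtain ⟨g', rfl⟩ := hg
      rw [scal_coeff_scale, scal_coeff_scale, AlgHom.commutes]
    · rw [scal_coeff_of_notMem _ hg, scal_coeff_of_notMem _ hg, map_zero])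

theorem coefHom_coeff (E : Type u) [Ring E] [Algebra k E] (x : Tw k q k) (g : Γ) :
    (ser (coefHom E x)).coeff g =
      Algebra.TensorProduct.map (Algebra.ofId k E) (AlgHom.id k (Op k q)) ((ser x).coeff g) := rfl

theorem coefHom_mem_good (E : Type u) [Ring E] [Algebra k E] (hω : ω ^ q = 1) {x : Tw k q k} (hx : x ∈ good k hω) :
    coefHom E x ∈ good E hω :=
  homog_of_exists _ fun g => ⟨_, by rw [coefHom_coeff, hx g, Algebra.TensorProduct.map_tmul]; rfl⟩

theorem commute_const_coef (E : Type u) [Ring E] [Algebra k E] (hω : ω ^ q = 1) (d : E) {x : Tw k q k}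
    (hx : x ∈ good k hω) : constHom (q := q) E d * coefHom E x = coefHom E x * constHom (q := q) E d := by
  refine HahnSeries.ext (funext fun g => ?_)
  show ((HahnSeries.C (d ⊗ₜ[k] (1 : Op k q)) : HahnSeries Γ (E ⊗[k] Op k q)) * ser (coefHom E x)).coeff g =
    (ser (coefHom E x) * HahnSeries.C (d ⊗ₜ[k] (1 : Op k q))).coeff g
  rw [HahnSeries.C_apply, HahnSeries.coeff_single_zero_mul, HahnSeries.coeff_mul_single_zero, coefHom_coeff, hx g,
    Algebra.TensorProduct.map_tmul, Algebra.TensorProduct.tmul_mul_tmul, Algebra.TensorProduct.tmul_mul_tmul,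
    Algebra.ofId_apply, Algebra.commutes, AlgHom.id_apply, one_mul, mul_one]

variable (E : Type u) [DivisionRing E] [Algebra k E] [Algebra.IsCentral k E] [FiniteDimensional k E]

/-- The twisted product. -/
abbrev Prd (hω : ω ^ q = 1) : Type u := (Base k ⊗[k] E) ⊗[Base k] Sym hω

/-- The map into twisted series. -/
def toTw (hω : ω ^ q = 1) : Prd E hω →ₐ[Base k] Tw k q E :=
  Algebra.TensorProduct.lift
    (Algebra.TensorProduct.lift (Algebra.ofId (Base k) (Tw k q E)) (constHom E) fun f d => Algebra.commutes f _)
    ((coefHom E).comp (Sym hω).val) fun z y => by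
      induction z using TensorProduct.induction_on with
      | zero => rw [map_zero]; exact Commute.zero_left _
      | add a b ha hb => rw [map_add]; exact ha.add_left hb
      | tmul f d =>
        rw [Algebra.TensorProduct.lift_tmul]
        exact Commute.mul_left (Algebra.commutes f _) (commute_const_coef E hω d (sym_le_good hω y.2))

theorem toTw_mem (hω : ω ^ q = 1) (z : Prd E hω) : toTw E hω z ∈ good E hω := by
  induction z using TensorProduct.induction_on with
  | zero => rw [map_zero]; exact zero_mem _
  | add a b ha hb => rw [map_add]; exact add_mem ha hb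
  | tmul w y =>
    rw [toTw, Algebra.TensorProduct.lift_tmul]
    refine mul_mem ?_ (coefHom_mem_good E hω (sym_le_good hω y.2))
    induction w using TensorProduct.induction_on with
    | zero => rw [map_zero]; exact zero_mem _
    | add a b ha hb => rw [map_add]; exact add_mem ha hb
    | tmul f d =>
      rw [Algebra.TensorProduct.lift_tmul]
      refine mul_mem (Subalgebra.algebraMap_mem _ f) (homog_of_exists _ fun g => ?_)
      show ∃ c : E, (HahnSeries.C (d ⊗ₜ[k] (1 : Op k q)) : HahnSeries Γ (E ⊗[k] Op k q)).coeff g = _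
      rcases eq_or_ne g 0 with rfl | hg
      · exact ⟨d, by rw [HahnSeries.C_apply, HahnSeries.coeff_single_same, ug_zero]⟩
      · exact ⟨0, by rw [HahnSeries.C_apply, HahnSeries.coeff_single_of_ne hg, TensorProduct.zero_tmul]⟩

theorem noZeroDivisors_prd (hω : ω ^ q = 1) (hp : IsPrimitiveRoot ω q) : NoZeroDivisors (Prd E hω) := by
  haveI := isCentral_sym hω hp
  haveI : IsSimpleRing (Prd E hω) := Csa25.isSimpleRing_tensor
  haveI : Nontrivial (Tw k q E) := ⟨0, 1, fun h => by
    have h2 := congrArg (fun x : Tw k q E => ctr ((ser x).coeff (0 : Γ))) h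
    simp only [← mono_zero (ω := ω), mono_coeff_same, ctr_tmul_ug] at h2
    exact zero_ne_one ((map_zero _).symm.trans h2)⟩
  have hinj : Function.Injective (toTw E hω) := (toTw E hω).toRingHom.injective
  exact ⟨fun {a b} h => (good_noZeroDivisors hω (toTw_mem E hω a) (toTw_mem E hω b)
    (by rw [← map_mul, h, map_zero])).imp (fun h => hinj (h.trans (map_zero _).symm))
      fun h => hinj (h.trans (map_zero _).symm)⟩

theorem noZeroDivisors_base (hω : ω ^ q = 1) (hp : IsPrimitiveRoot ω q) : NoZeroDivisors (Base k ⊗[k] E) := by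
  haveI := noZeroDivisors_prd E hω hp
  haveI := isCentral_sym hω hp
  haveI : IsSimpleRing (Prd E hω) := Csa25.isSimpleRing_tensor
  let i : Base k ⊗[k] E →ₐ[Base k] Prd E hω := Algebra.TensorProduct.includeLeft
  exact Function.Injective.noZeroDivisors i i.toRingHom.injective (map_zero i) (map_mul i)

end

/-- Division algebras with a primitive root of order the period. -/
def HasType (p i : ℕ) : Prop :=
  ∃ (k : Type u) (_ : Field k) (D : Type u) (_ : DivisionRing D) (_ : Algebra k D) (_ : Algebra.IsCentral k D)
    (_ : FiniteDimensional k D), (∃ ω : k, IsPrimitiveRoot ω p) ∧ finrank k D = i * i ∧ orderOf (cl k D) = p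

/-- The index can be multiplied by any prime dividing the period. -/
theorem hasType_mul {p i q : ℕ} (hp : 0 < p) (hq : q.Prime) (hqp : q ∣ p) (h : HasType.{u} p i) :
    HasType.{u} p (i * q) := by
  obtain ⟨k, _, D, _, _, _, _, ⟨ω', hω'⟩, hi, hord⟩ := h
  haveI : NeZero q := ⟨hq.ne_zero⟩
  let ω : k := ω' ^ (p / q)
  have hprim : IsPrimitiveRoot ω q := hω'.pow hp (Nat.div_mul_cancel hqp).symm
  have hω : ω ^ q = 1 := hprim.pow_eq_one
  haveI := isCentral_sym hω hprim
  let K := Base k
  let c := cl k D
  let s := cl K (Sym hω)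
  haveI : IsSimpleRing (Prd D hω) := Csa25.isSimpleRing_tensor
  haveI := noZeroDivisors_prd D hω hprim
  have hclT : cl K (Prd D hω) = res K c * s := by rw [Csa25.cl_tensor, res_cl]
  have hs : s ^ q = 1 := Csa25.cl_pow_degree (finrank_sym hω)
  -- restriction is injective
  have hres : ∀ x : Br k, res K x = 1 → x = 1 := fun x hx => by
    obtain ⟨X, rfl⟩ := cl_surjective x
    obtain ⟨m, E, _, _, hm, _, _, ⟨e⟩⟩ := exists_division k X
    haveI : NeZero m := ⟨hm.ne'⟩
    have hX : cl k X = cl k E := by rw [cl_congr e, cl_matrix]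
    rw [hX, res_cl] at hx
    haveI := noZeroDivisors_base E hω hprim
    have h1 := finrank_eq_one_of_cl _ hx
    rw [Module.finrank_baseChange] at h1
    rw [hX, ← splits_iff_cl_eq_one]
    exact splits_iff_isIndex_one.mpr (isIndex_of_noZeroDivisors k E (by rw [h1]))
  -- the restricted classes never cancel the symbol
  have hne : ∀ x : Br k, res K x * s ≠ 1 := fun x hx => by
    obtain ⟨X, rfl⟩ := cl_surjective x
    obtain ⟨m, E, _, _, hm, _, _, ⟨e⟩⟩ := exists_division k X
    haveI : NeZero m := ⟨hm.ne'⟩
    rw [cl_congr e, cl_matrix, res_cl, ← Csa25.cl_tensor] at hx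
    haveI : IsSimpleRing (Prd E hω) := Csa25.isSimpleRing_tensor
    haveI := noZeroDivisors_prd E hω hprim
    have h1 := finrank_eq_one_of_cl (Prd E hω) hx
    rw [Module.finrank_tensorProduct, finrank_sym] at h1
    exact hq.ne_one (Nat.eq_one_of_mul_eq_one_left (Nat.eq_one_of_mul_eq_one_left h1))
  have horder : orderOf (res K c * s) = p := by
    refine (orderOf_eq_iff hp).mpr ⟨?_, fun e he he0 hce => ?_⟩
    · obtain ⟨r, hr⟩ := hqp
      rw [mul_pow, ← map_pow, ← hord, pow_orderOf_eq_one, map_one, one_mul, hord, hr, pow_mul, hs, one_pow]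
    · rw [mul_pow, ← map_pow] at hce
      by_cases hqe : q ∣ e
      · obtain ⟨r, rfl⟩ := hqe
        rw [pow_mul s, hs, one_pow, mul_one] at hce
        exact absurd (Nat.le_of_dvd he0 (hord ▸ orderOf_dvd_of_pow_eq_one (hres _ hce))) (not_le.mpr he)
      · obtain ⟨t, -, ht⟩ := Nat.exists_mul_mod_eq_one_of_coprime ((hq.coprime_iff_not_dvd.mpr hqe).symm) hq.one_lt
        refine hne (((c ^ e) ^ t)) ?_
        have h2 := congrArg (fun z => z ^ t) hce
        simp only [mul_pow, one_pow, ← map_pow] at h2
        rwa [← pow_mul s, ← Nat.mod_add_div (e * t) q, ht, pow_add, pow_mul s, hs, one_pow, mul_one, pow_one] at h2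
  haveI : IsDomain (Prd D hω) := NoZeroDivisors.to_isDomain _
  let f : k →+* K := HahnSeries.C
  refine ⟨K, inferInstance, Prd D hω, divisionRingOfFiniteDimensional K (Prd D hω), inferInstance, inferInstance,
    inferInstance, ⟨f ω', hω'.map_of_injective f.injective⟩, ?_, ?_⟩
  · rw [Module.finrank_tensorProduct, Module.finrank_baseChange, finrank_sym, hi]
    ring
  · exact (congrArg orderOf hclT).trans horder

end Groth.Agent.ASB64
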