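import Groth.Agent.ASB64.TypeSym.Series
import Mathlib.LinearAlgebra.FiniteDimensional.Basic
import Mathlib.RingTheory.SimpleRing.Basic
import Mathlib.Algebra.Algebra.Subalgebra.Basic
import Mathlib.Algebra.Central.Defs

/-! The symbol algebra inside the twisted series. -/

set_option autoImplicit false
set_option maxSynthPendingDepth 6
set_option synthInstance.maxHeartbeats 200000
set_option backward.isDefEq.respectTransparency.types false
universe u

open scoped TensorProduct

noncomputable section

namespace Groth.Agent.ASB64.TwSer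

variable {k : Type u} [Field k] {q : ℕ} [NeZero q] {ω : k}

variable (q) in
/-- The standard monomials. -/
def mono (C : Type u) [Ring C] [Algebra k C] (ω : k) (g : Γ) : Tw k q C :=
  (HahnSeries.single g ((1 : C) ⊗ₜ[k] ug q ω g) : HahnSeries Γ (C ⊗[k] Op k q))

variable {C : Type u} [Ring C] [Algebra k C]

theorem mono_coeff_same (g : Γ) : (ser (mono q C ω g)).coeff g = (1 : C) ⊗ₜ[k] ug q ω g :=
  HahnSeries.coeff_single_same g _

theorem mono_coeff_ne {g h : Γ} (hh : h ≠ g) : (ser (mono q C ω g)).coeff h = 0 :=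
  HahnSeries.coeff_single_of_ne hh

theorem mono_mem_good (hω : ω ^ q = 1) (g : Γ) : mono q C ω g ∈ good C hω :=
  homog_of_exists _ fun h => by
    rcases eq_or_ne h g with rfl | hh
    · exact ⟨1, mono_coeff_same h⟩
    · exact ⟨0, (mono_coeff_ne hh).trans (TensorProduct.zero_tmul C _).symm⟩

theorem mono_zero : mono q C ω 0 = 1 :=
  (congrArg (fun r => (HahnSeries.single (0 : Γ) r : HahnSeries Γ (C ⊗[k] Op k q))) (by rw [ug_zero]; rfl)).trans rfl

/-- The commutation constant. -/
def cc (ω : k) (g h : Γ) : k := chi (q := q) ω (-(((ofLex h).1 : ZMod q) * ((ofLex g).2 : ZMod q)))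

theorem mono_mul (hω : ω ^ q = 1) (g h : Γ) :
    mono q C ω g * mono q C ω h = cc (q := q) ω g h • mono q C ω (g + h) := by
  show (HahnSeries.single g ((1 : C) ⊗ₜ[k] ug q ω g) * HahnSeries.single h ((1 : C) ⊗ₜ[k] ug q ω h) :
    HahnSeries Γ (C ⊗[k] Op k q)) = cc (q := q) ω g h • HahnSeries.single (g + h) ((1 : C) ⊗ₜ[k] ug q ω (g + h))
  rw [HahnSeries.single_mul_single, Algebra.TensorProduct.tmul_mul_tmul, mul_one, ug_mul hω,
    TensorProduct.tmul_smul]
  refine HahnSeries.ext (funext fun a => ?_)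
  rw [HahnSeries.coeff_smul]
  rcases eq_or_ne a (g + h) with rfl | ha
  · rw [HahnSeries.coeff_single_same, HahnSeries.coeff_single_same]; rfl
  · rw [HahnSeries.coeff_single_of_ne ha, HahnSeries.coeff_single_of_ne ha, smul_zero]

theorem mono_scale (g : Γ) :
    mono q C ω (scale q g) = algebraMap (Base k) (Tw k q C) (HahnSeries.single g 1) := by
  refine HahnSeries.ext (funext fun h => ?_)
  show (ser (mono q C ω (scale q g))).coeff h = (ser (scal (HahnSeries.single g 1 : Base k))).coeff h
  by_cases hh : h ∈ Set.range (scale q)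
  · obtain ⟨h', rfl⟩ := hh
    rw [scal_coeff_scale]
    rcases eq_or_ne h' g with rfl | hg
    · rw [mono_coeff_same, HahnSeries.coeff_single_same, map_one, ug_scale]; rfl
    · rw [mono_coeff_ne fun e => hg (scale_injective e), HahnSeries.coeff_single_of_ne hg, map_zero]
  · rw [scal_coeff_of_notMem _ hh, mono_coeff_ne]
    rintro rfl
    exact hh ⟨g, rfl⟩

variable (q) in
/-- Residues of exponents. -/
def rep (r : Fin q × Fin q) : Γ := toLex (((r.1 : ℕ) : ℤ), ((r.2 : ℕ) : ℤ))

theorem exists_rep (g : Γ) : ∃ (r : Fin q × Fin q) (h : Γ), g = scale q h + rep q r := by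
  have hq : (q : ℤ) ≠ 0 := by exact_mod_cast NeZero.ne q
  have key : ∀ a : ℤ, ∃ (i : Fin q) (b : ℤ), a = q • b + ((i : ℕ) : ℤ) := fun a =>
    ⟨⟨(a % q).toNat, by
      have h1 := Int.emod_nonneg a hq
      have h2 := Int.emod_lt_of_pos a (show (0 : ℤ) < q by exact_mod_cast Nat.pos_of_ne_zero (NeZero.ne q))
      omega⟩, a / q, by
      simp only [nsmul_eq_mul, Int.toNat_of_nonneg (Int.emod_nonneg a hq)]
      exact (Int.mul_ediv_add_emod a q).symm⟩
  obtain ⟨i, b, hb⟩ := key (ofLex g).1
  obtain ⟨j, c, hc⟩ := key (ofLex g).2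
  exact ⟨(i, j), toLex (b, c), ofLex.injective (Prod.ext hb hc)⟩

theorem rep_eq_of_sub_mem {r s : Fin q × Fin q} {h : Γ} (e : scale q h + rep q r = rep q s) : r = s := by
  have key : ∀ (a b : Fin q) (c : ℤ), (q : ℕ) • c + ((a : ℕ) : ℤ) = ((b : ℕ) : ℤ) → a = b := fun a b c e => by
    have := congrArg (Int.cast : ℤ → ZMod q) e
    simp only [nsmul_eq_mul, Int.cast_add, Int.cast_mul, Int.cast_natCast, ZMod.natCast_self, zero_mul, zero_add] at this
    exact Fin.ext (by simpa [ZMod.val_natCast, Nat.mod_eq_of_lt] using congrArg ZMod.val this)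
  exact Prod.ext (key _ _ _ (congrArg (fun g => (ofLex g).1) e)) (key _ _ _ (congrArg (fun g => (ofLex g).2) e))

theorem linearIndependent_mono (ω : k) :
    LinearIndependent (Base k) fun r : Fin q × Fin q => mono q k ω (rep q r) := by
  rw [Fintype.linearIndependent_iff]
  intro a ha s
  refine HahnSeries.ext (funext fun h => ?_)
  have h1 : (ser (∑ r, a r • mono q k ω (rep q r))).coeff (scale q h + rep q s) = 0 := by rw [ha]; rfl
  have h2 : ∀ r, (ser (a r • mono q k ω (rep q r))).coeff (scale q h + rep q s) =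
      if r = s then ((a s).coeff h) • ((1 : k) ⊗ₜ[k] ug q ω (rep q s)) else 0 := fun r => by
    rw [Algebra.smul_def, ser_mul]
    split_ifs with hrs
    · subst hrs
      refine HahnSeries.coeff_mul_single_add.trans ?_
      rw [algebraMap_eq_scal, scal_coeff_scale, Algebra.smul_def]
    · have hg : scale q h + rep q s = (scale q h + rep q s - rep q r) + rep q r := (sub_add_cancel _ _).symm
      rw [hg]
      refine HahnSeries.coeff_mul_single_add.trans ?_
      rw [algebraMap_eq_scal, scal_coeff_of_notMem, zero_mul]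
      rintro ⟨h', e⟩
      refine hrs (rep_eq_of_sub_mem (h := h' - h) ?_)
      rw [map_sub, e]
      abel
  have h3 : (ser (∑ r, a r • mono q k ω (rep q r))).coeff (scale q h + rep q s) =
      ((a s).coeff h) • ((1 : k) ⊗ₜ[k] ug q ω (rep q s)) := by
    show (∑ r, ser (a r • mono q k ω (rep q r))).coeff (scale q h + rep q s) = _
    rw [HahnSeries.coeff_sum, Finset.sum_congr rfl fun r _ => h2 r, Finset.sum_ite_eq' Finset.univ s,
      if_pos (Finset.mem_univ s)]
  have h4 := congrArg ctr (h1.symm.trans h3)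
  rw [map_zero, map_smul, ctr_tmul_ug, smul_eq_mul, mul_one] at h4
  exact h4.symm

/-- The span of the standard monomials. -/
def symMod (ω : k) : Submodule (Base k) (Tw k q k) :=
  Submodule.span (Base k) (Set.range fun r : Fin q × Fin q => mono q k ω (rep q r))

theorem mono_mem_symMod (hω : ω ^ q = 1) (g : Γ) : mono q k ω g ∈ symMod (q := q) ω := by
  obtain ⟨r, h, rfl⟩ := exists_rep (q := q) g
  have h1 := mono_mul (C := k) hω (scale q h) (rep q r)
  have hc : cc (q := q) ω (scale q h) (rep q r) = 1 := by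
    rw [cc, scale_apply, show ofLex (q • h) = q • ofLex h from rfl, Prod.smul_snd]
    simp only [nsmul_eq_mul, Int.cast_mul, Int.cast_natCast, ZMod.natCast_self, zero_mul, mul_zero, neg_zero, chi_zero]
  rw [hc, one_smul, mono_scale, ← Algebra.smul_def] at h1
  rw [← h1]
  exact Submodule.smul_mem _ _ (Submodule.subset_span ⟨r, rfl⟩)

/-- The symbol algebra. -/
def Sym (hω : ω ^ q = 1) : Subalgebra (Base k) (Tw k q k) :=
  (symMod (q := q) ω).toSubalgebra (mono_zero (q := q) (C := k) (ω := ω) ▸ mono_mem_symMod hω 0) fun x y hx hy => by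
    induction hx using Submodule.span_induction with
    | zero => rw [zero_mul]; exact zero_mem _
    | add a b _ _ ha hb => rw [add_mul]; exact add_mem ha hb
    | smul c a _ ha => rw [smul_mul_assoc]; exact Submodule.smul_mem _ c ha
    | mem a ha =>
      obtain ⟨r, rfl⟩ := ha
      induction hy using Submodule.span_induction with
      | zero => rw [mul_zero]; exact zero_mem _
      | add a b _ _ ha hb => rw [mul_add]; exact add_mem ha hb
      | smul c a _ ha => rw [mul_smul_comm]; exact Submodule.smul_mem _ c ha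
      | mem b hb =>
        obtain ⟨s, rfl⟩ := hb
        rw [mono_mul hω, ← IsScalarTower.algebraMap_smul (Base k)]
        exact Submodule.smul_mem _ _ (mono_mem_symMod hω _)

variable (hω : ω ^ q = 1)

theorem sym_le_good : Sym hω ≤ good k hω := fun x (hx : x ∈ symMod ω) => by
  induction hx using Submodule.span_induction with
  | zero => exact zero_mem _
  | add a b _ _ ha hb => exact add_mem ha hb
  | smul c a _ ha => exact Subalgebra.smul_mem _ ha c
  | mem a ha => obtain ⟨r, rfl⟩ := ha; exact mono_mem_good hω _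

instance : FiniteDimensional (Base k) (Sym hω) :=
  Module.Finite.span_of_finite (Base k) (Set.finite_range fun r : Fin q × Fin q => mono q k ω (rep q r))

theorem finrank_sym : Module.finrank (Base k) (Sym hω) = q * q := by
  refine Eq.trans (finrank_span_eq_card (linearIndependent_mono (q := q) ω)) ?_
  rw [Fintype.card_prod, Fintype.card_fin]

instance : Nontrivial (Sym hω) := by
  refine ⟨0, 1, fun h => ?_⟩
  have h2 := congrArg (fun x : Sym hω => (ser (x : Tw k q k)).coeff (scale q 0)) h
  simp only [ZeroMemClass.coe_zero, OneMemClass.coe_one] at h2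
  rw [← mono_zero (ω := ω), map_zero, mono_coeff_same] at h2
  have h3 := congrArg ctr h2
  rw [show (ser (0 : Tw k q k)).coeff (0 : Γ) = 0 from rfl, map_zero, ctr_tmul_ug] at h3
  exact zero_ne_one h3

instance : NoZeroDivisors (Sym hω) := ⟨fun {a b} h =>
  (good_noZeroDivisors hω (sym_le_good hω a.2) (sym_le_good hω b.2) (congrArg Subtype.val h)).imp
    Subtype.ext Subtype.ext⟩

theorem isUnit_sym {a : Sym hω} (ha : a ≠ 0) : IsUnit a := by
  haveI : IsDomain (Sym hω) := NoZeroDivisors.to_isDomain _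
  obtain ⟨b, hb⟩ := (LinearMap.injective_iff_surjective (f := LinearMap.mulLeft (Base k) a)).mp
    (mul_right_injective₀ ha) 1
  exact IsUnit.of_mul_eq_one b hb

instance : IsSimpleRing (Sym hω) := by
  refine IsSimpleRing.of_eq_bot_or_eq_top fun I => or_iff_not_imp_left.2 fun hI => ?_
  obtain ⟨a, ha, ha0⟩ : ∃ a ∈ I, a ≠ (0 : Sym hω) := by
    by_contra hc
    exact hI (le_antisymm (fun a ha => (TwoSidedIdeal.mem_bot _).mpr (by
      by_contra h0; exact hc ⟨a, ha, h0⟩)) bot_le)
  obtain ⟨v, rfl⟩ := isUnit_sym hω ha0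
  exact TwoSidedIdeal.eq_top I (by simpa using I.mul_mem_left (↑v⁻¹) _ ha)

/-- The symbol algebra is central. -/
theorem isCentral_sym (hp : IsPrimitiveRoot ω q) : Algebra.IsCentral (Base k) (Sym hω) := by
  refine ⟨fun z hz => ?_⟩
  rw [Subalgebra.mem_center_iff] at hz
  obtain ⟨a, ha⟩ := (Submodule.mem_span_range_iff_exists_fun (Base k)).mp z.2
  have key : ∀ (e : Γ) (c : Fin q × Fin q → k), (∀ r, mono q k ω (rep q r) * mono q k ω e =
      c r • (mono q k ω e * mono q k ω (rep q r))) → ∀ r, c r ≠ 1 → a r = 0 := fun e c hc r hr => by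
    have h0 : (z : Tw k q k) * mono q k ω e - mono q k ω e * (z : Tw k q k) = 0 :=
      sub_eq_zero.mpr (congrArg Subtype.val (hz ⟨mono q k ω e, mono_mem_symMod hω e⟩)).symm
    have h1 : mono q k ω e * ∑ s, ((algebraMap k (Base k) (c s) - 1) * a s) • mono q k ω (rep q s) = 0 := by
      rw [← h0, ← ha, Finset.sum_mul, Finset.mul_sum, Finset.mul_sum, ← Finset.sum_sub_distrib]
      refine Finset.sum_congr rfl fun s _ => ?_
      rw [mul_smul_comm, mul_smul_comm, smul_mul_assoc, hc, sub_mul, one_mul, sub_smul, mul_smul,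
        IsScalarTower.algebraMap_smul, smul_comm (c s)]
    rcases good_noZeroDivisors hω (mono_mem_good hω e) (sum_mem fun s _ =>
      Subalgebra.smul_mem _ (mono_mem_good hω _) _) h1 with h | h
    · have := congrArg (fun x : Tw k q k => ctr ((ser x).coeff e)) h
      simp only [mono_coeff_same, ctr_tmul_ug] at this
      exact absurd (this.trans (map_zero _)) one_ne_zero
    · refine (mul_eq_zero.mp (Fintype.linearIndependent_iff.mp (linearIndependent_mono (q := q) ω) _ h r)).resolve_left
        fun h' => hr ((algebraMap k (Base k)).injective ((sub_eq_zero.mp h').trans (map_one _).symm))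
  have hcast : ∀ i : Fin q, ((((i : ℕ) : ℤ) : ZMod q)) = 0 → (i : ℕ) = 0 := fun i h => by
    rw [Int.cast_natCast, ZMod.natCast_eq_zero_iff] at h
    exact Nat.eq_zero_of_dvd_of_lt h i.2
  have h₁ : ∀ r, (r.2 : ℕ) ≠ 0 → a r = 0 := fun r hr => key (toLex (1, 0))
    (fun s => cc (q := q) ω (rep q s) (toLex (1, 0))) (fun s => by
      rw [mono_mul hω, mono_mul hω, add_comm (rep q s)]
      have hz1 : cc (q := q) ω (toLex ((1 : ℤ), (0 : ℤ))) (rep q s) = 1 := by simp [cc, chi_zero]
      rw [hz1, one_smul]) r fun h => hr (hcast _ (by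
        have := eq_zero_of_chi_eq_one hp h
        simpa [rep] using this))
  have h₂ : ∀ r, (r.1 : ℕ) ≠ 0 → a r = 0 := fun r hr => key (toLex (0, 1))
    (fun s => (cc (q := q) ω (toLex (0, 1)) (rep q s))⁻¹) (fun s => by
      rw [mono_mul hω, mono_mul hω, add_comm (rep q s), smul_smul,
        inv_mul_cancel₀ (show cc (q := q) ω (toLex ((0 : ℤ), (1 : ℤ))) (rep q s) ≠ 0 from chi_ne_zero hω _)]
      have hz1 : cc (q := q) ω (rep q s) (toLex ((0 : ℤ), (1 : ℤ))) = 1 := by simp [cc, chi_zero]
      rw [hz1]) r fun h => hr (hcast _ (by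
        have := eq_zero_of_chi_eq_one hp (inv_eq_one.mp h)
        simpa [rep] using this))
  refine Algebra.mem_bot.mpr ⟨a (0, 0), Subtype.ext ?_⟩
  rw [← ha, Finset.sum_eq_single ((0, 0) : Fin q × Fin q)]
  · rw [show rep q ((0, 0) : Fin q × Fin q) = 0 from rfl, mono_zero, ← Algebra.algebraMap_eq_smul_one]
    rfl
  · intro r _ hr
    rcases eq_or_ne (r.1 : ℕ) 0 with h | h
    · rw [h₁ r fun h' => hr (Prod.ext (Fin.ext h) (Fin.ext h')), zero_smul]
    · rw [h₂ r h, zero_smul]
  · exact fun h => absurd (Finset.mem_univ _) h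

end Groth.Agent.ASB64.TwSer
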